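import Cfsg.Agent.H334.DS.Degs
import Cfsg.Agent.H713.Spor.McL

/-!
# Degrees of HS and McL (helper334, from helper713's results)

* `hs` : 22, 77;  `mcl` : 22, 252.
-/

set_option autoImplicit false

namespace Cfsg.Agent.H334.DS

open Cfsg Cfsg.Agent.Characters.Core Cfsg.Agent.H665.NoPQ
open Cfsg.Agent.Blocks.Basic (irr_one_eq_charDegree)
open Cfsg.Agent.SporadicRecognition.RankThree Cfsg.Agent.SporadicRecognition.HSRank

universe u

theorem HasDeg.of_charDegree {G : Type*} [Group G] [Finite G] {m : ℕ}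
    (h : ∃ χ : IrrCharacter G, charDegree (χ : G → ℂ) = m) : HasDeg G m := by
  obtain ⟨χ, hχ⟩ := h
  exact ⟨χ, χ.2, by rw [irr_one_eq_charDegree χ.2, hχ]⟩

theorem hs {S : Type u} [Group S] (h : Spor.IsoHS S) : HasDeg S 22 ∧ HasDeg S 77 := by
  obtain ⟨e⟩ := h
  obtain ⟨hs, hc⟩ := H713.Spor.HS.facts
  have hfin : Finite ↥(K H713.Spor.HS.V H713.Spor.HS.W) := Nat.finite_of_card_ne_zero (by rw [hc]; norm_num)
  obtain ⟨μ, -, hμ⟩ := H713.Spor.HS.exists_22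
  have h1 := H713.Spor.HS.degree_of_lchi hμ
  refine ⟨(HasDeg.of_charDegree ⟨μ, by omega⟩).mulEquiv (e.trans hsEquiv), ?_⟩
  exact (HasDeg.of_charDegree H713.Spor.HS.exists_77).mulEquiv (e.trans hsEquiv)

theorem mcl {S : Type u} [Group S] (h : Spor.IsoMcL S) : HasDeg S 22 ∧ HasDeg S 252 := by
  obtain ⟨e⟩ := h
  obtain ⟨hs, hc⟩ := H713.Spor.McL.facts
  have hfin : Finite ↥(K (-Spor.leechV) Spor.leechU) := Nat.finite_of_card_ne_zero (by rw [hc]; norm_num)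
  obtain ⟨μ, -, hμ⟩ := H713.Spor.McL.exists_22
  have h1 := H713.Spor.HS.degree_of_lchi hμ
  refine ⟨(HasDeg.of_charDegree ⟨μ, by omega⟩).mulEquiv (e.trans H713.Spor.McL.mclEquiv), ?_⟩
  exact (HasDeg.of_charDegree H713.Spor.McL.exists_252).mulEquiv (e.trans H713.Spor.McL.mclEquiv)

end Cfsg.Agent.H334.DS
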