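import Cfsg.Agent.H334.DS.Rank
import Cfsg.Agent.NotCT.Orders
import Cfsg.Agent.S0157
import Cfsg.Agent.S1624
import Cfsg.Agent.S1680
import Cfsg.Agent.S1687
import Cfsg.Agent.S1690
import Cfsg.Agent.S1691

/-!
# Degrees of J2, Suz, Fi22, Fi24' from rank 3 actions (helper334)

* `j2` : 36, 63;  `suz` : 780, 1001;  `fi22` : 429, 3080;  `fi24` : a nontrivial irreducible degree at most 306935.
-/

set_option autoImplicit false

namespace Cfsg.Agent.H334.DS

open Cfsg Cfsg.Agent.Characters.Core Cfsg.Agent.H665.NoPQ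

universe u

/-- `K` has an irreducible character of degree `m`. -/
def HasDeg (K : Type*) [Group K] (m : ℕ) : Prop := ∃ ψ : K → ℂ, IsIrrCharacter K ψ ∧ ψ 1 = m

theorem HasDeg.mulEquiv {G H : Type*} [Group G] [Group H] {m : ℕ} (e : G ≃* H) (h : HasDeg H m) : HasDeg G m := by
  obtain ⟨ψ, h1, h2⟩ := h
  exact ⟨ψ ∘ e, isIrr_comp e.toMonoidHom e.surjective h1, by rw [Function.comp_apply, map_one, h2]⟩

theorem HasDeg.of_irr {G : Type*} [Group G] {m : ℕ} (h : ∃ χ : IrrCharacter G, (χ : G → ℂ) 1 = m) : HasDeg G m := by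
  obtain ⟨χ, hχ⟩ := h
  exact ⟨χ, χ.2, hχ⟩

/-! ### J2 -/

theorem chk_j2 : chk 604800 36 63 36 63 = true := by decide +kernel

theorem j2 {K : Type u} [Group K] (h : Spor.IsoJ2 K) : HasDeg K 36 ∧ HasDeg K 63 := by
  have hc : Nat.card Spor.J2 = 604800 := NotCT.Orders.j2 (K := Spor.J2) ⟨MulEquiv.refl _⟩
  have : Finite Spor.J2 := Nat.finite_of_card_ne_zero (by rw [hc]; norm_num)
  obtain ⟨e⟩ := h
  obtain ⟨H, h1, -, h2⟩ := Cfsg.Agent.S1624.result
  obtain ⟨h3, h4⟩ := degs_of_index H (k := 36) (l := 63) (m₁ := 36) (m₂ := 63) h1 h2 (by norm_num) (by norm_num)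
    (by norm_num) hc (by norm_num) chk_j2
  exact ⟨(HasDeg.of_irr h3).mulEquiv e, (HasDeg.of_irr h4).mulEquiv e⟩

/-! ### Suz -/

theorem chk_suz : chk 448345497600 416 1365 780 1001 = true := by decide +kernel

theorem suz {K : Type u} [Group K] (h : Spor.IsoSuz K) : HasDeg K 780 ∧ HasDeg K 1001 := by
  have hc : Nat.card Spor.Suz = 448345497600 := NotCT.Orders.suz (K := Spor.Suz) ⟨MulEquiv.refl _⟩
  have : Finite Spor.Suz := Nat.finite_of_card_ne_zero (by rw [hc]; norm_num)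
  obtain ⟨e⟩ := h
  obtain ⟨h1, h2⟩ := Cfsg.Agent.S1680.result
  obtain ⟨h3, h4⟩ := degs_of_index _ (k := 416) (l := 1365) (m₁ := 780) (m₂ := 1001) h1 h2 (by norm_num) (by norm_num)
    (by norm_num) hc (by norm_num) chk_suz
  exact ⟨(HasDeg.of_irr h3).mulEquiv e, (HasDeg.of_irr h4).mulEquiv e⟩

/-! ### Fi22 -/

theorem chk_fi22 : chk 64561751654400 693 2816 429 3080 = true := by decide +kernel

theorem fi22 {K : Type u} [Group K] (h : Spor.IsoFi22 K) : HasDeg K 429 ∧ HasDeg K 3080 := by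
  have hc : Nat.card Spor.Fi22 = 64561751654400 := NotCT.Orders.fi22 (K := Spor.Fi22) ⟨MulEquiv.refl _⟩
  have : Finite Spor.Fi22 := Nat.finite_of_card_ne_zero (by rw [hc]; norm_num)
  obtain ⟨e⟩ := h
  obtain ⟨h1, h2⟩ := Cfsg.Agent.S1687.result
  obtain ⟨h3, h4⟩ := degs_of_index _ (k := 693) (l := 2816) (m₁ := 429) (m₂ := 3080) h1 h2 (by norm_num) (by norm_num)
    (by norm_num) hc (by norm_num) chk_fi22
  exact ⟨(HasDeg.of_irr h3).mulEquiv e, (HasDeg.of_irr h4).mulEquiv e⟩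

/-! ### A nontrivial irreducible of degree less than the index of a proper subgroup -/

theorem exists_lt_index {G : Type*} [Group G] [Finite G] (H : Subgroup G) (hi : 1 < H.index) :
    ∃ ψ : G → ℂ, IsIrrCharacter G ψ ∧ ψ ≠ 1 ∧ ∃ d : ℕ, ψ 1 = d ∧ d < H.index := by
  classical
  have := Fintype.ofFinite G
  have := finite_irr (G := G)
  have := Fintype.ofFinite (IrrCharacter G)
  set π : G → ℂ := fun g => (Nat.card (MulAction.fixedBy (G ⧸ H) g) : ℂ) with hπ
  obtain ⟨m, hm⟩ := exists_nat_comb (Cfsg.Agent.S0157.isCharacter_fixedBy (G := G) (G ⧸ H))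
  change π = _ at hm
  have hπ1 : classInner π (1 : G → ℂ) = 1 := by
    have h1 := Cfsg.Agent.S0157.avg_fixedBy (G := G) (G ⧸ H)
    rw [Cfsg.Agent.S0157.card_orbits_of_pretransitive G (G ⧸ H)] at h1
    rw [hπ]
    simpa [classInner] using h1
  set one : IrrCharacter G := ⟨1, isIrr_one⟩ with hone
  have hm1 : m one = 1 := by
    have h1 := classInner_sum_nsmul_irr m one
    rw [← hm] at h1
    have h2 : (one : G → ℂ) = 1 := rfl
    rw [h2, hπ1] at h1
    exact_mod_cast h1.symm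
  have hd : ∀ χ : IrrCharacter G, ∃ n : ℕ, 0 < n ∧ (χ : G → ℂ) 1 = n := fun χ => isIrr_apply_one χ.2
  choose d hd0 hd using hd
  have hdeg : (H.index : ℂ) = ((∑ χ : IrrCharacter G, m χ * d χ : ℕ) : ℂ) := by
    have h1 : π 1 = (H.index : ℂ) := by
      rw [hπ]
      simp only
      rw [MulAction.fixedBy_one_eq_univ, Nat.card_coe_set_eq, Set.ncard_univ]
      rfl
    rw [← h1, hm, Finset.sum_apply]
    push_cast
    refine Finset.sum_congr rfl fun χ _ => ?_
    rw [Pi.smul_apply, hd χ, nsmul_eq_mul]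
  have hdegN : H.index = ∑ χ : IrrCharacter G, m χ * d χ := by exact_mod_cast hdeg
  have hd1 : d one = 1 := by
    have h1 := hd one
    have h2 : (one : G → ℂ) 1 = 1 := rfl
    rw [h2] at h1
    exact_mod_cast h1.symm
  rw [← Finset.add_sum_erase _ _ (Finset.mem_univ one), hm1, hd1] at hdegN
  obtain ⟨χ, hχ, hχ0⟩ : ∃ χ ∈ Finset.univ.erase one, m χ * d χ ≠ 0 := by
    by_contra hcon
    push Not at hcon
    rw [Finset.sum_eq_zero hcon] at hdegN
    omega
  refine ⟨χ, χ.2, ?_, d χ, hd χ, ?_⟩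
  · intro h
    exact (Finset.mem_erase.1 hχ).1 (Subtype.ext h)
  · have h1 := Finset.single_le_sum (f := fun χ => m χ * d χ) (fun i _ => Nat.zero_le _) hχ
    have h2 : d χ ≤ m χ * d χ := Nat.le_mul_of_pos_left _ (Nat.pos_of_ne_zero fun h0 => hχ0 (by rw [h0, zero_mul]))
    omega

/-- `Fi24'`. -/
theorem fi24 {K : Type u} [Group K] (h : Spor.IsoFi24' K) :
    ∃ ψ : K → ℂ, IsIrrCharacter K ψ ∧ ψ ≠ 1 ∧ ∃ d : ℕ, ψ 1 = d ∧ d ≤ 306935 := by
  obtain ⟨e⟩ := h
  have hi := Cfsg.Agent.S1690.result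
  have h2 := Cfsg.Agent.S1691.result
  generalize hH : (((Subgroup.closure ({Cfsg.Spor.Fi24.a, Cfsg.Spor.Fi24.b, Cfsg.Spor.Fi24.c, Cfsg.Spor.Fi24.d, Cfsg.Spor.Fi24.e, Cfsg.Spor.Fi24.f, Cfsg.Spor.Fi24.g, Cfsg.Spor.Fi24.h, Cfsg.Spor.Fi24.i, Cfsg.Spor.Fi24.j, Cfsg.Spor.Fi24.l} : Set (FreeGroup Cfsg.Spor.Fi24.Gen))).map (PresentedGroup.mk (Cfsg.Spor.coxRelators Cfsg.Spor.Fi24.edges ∪ {r | r ∈ Cfsg.Spor.Fi24.extra}))))
    = H at hi
  have hfin : Finite Spor.Fi24' := by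
    have hc : Nat.card Spor.Fi24' = 1255205709190661721292800 :=
      NotCT.Orders.fi24 (K := Spor.Fi24') ⟨MulEquiv.refl _⟩
    exact Nat.finite_of_card_ne_zero (by rw [hc]; norm_num)
  set C : Subgroup Spor.Fi24 := commutator Spor.Fi24 with hC
  have h3 : (H.subgroupOf C).index ≤ 306936 := by
    have h4 : H.relIndex C ≤ H.index := by
      rw [← Subgroup.relIndex_top_right]
      refine Subgroup.relIndex_le_of_le_right le_top ?_
      rw [Subgroup.relIndex_top_right, hi]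
      norm_num
    rw [hi] at h4
    exact h4
  have h4 : (H.subgroupOf C).index ≠ 1 := by
    intro h5
    have h6 : C ≤ H := by
      rw [Subgroup.index_eq_one, Subgroup.subgroupOf_eq_top] at h5
      exact h5
    have h7 := Subgroup.index_dvd_of_le h6
    rw [h2, hi] at h7
    norm_num at h7
  have h5 : (H.subgroupOf C).index ≠ 0 := by
    have : Finite C := hfin
    exact Subgroup.index_ne_zero_of_finite
  have : Finite C := hfin
  obtain ⟨ψ, h6, h7, d, h8, h9⟩ := exists_lt_index (H.subgroupOf C) (by omega)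
  refine ⟨ψ ∘ e, isIrr_comp e.toMonoidHom e.surjective h6, ?_, d, ?_, by omega⟩
  · intro h10
    apply h7
    funext x
    have h11 := congrFun h10 (e.symm x)
    rw [Function.comp_apply, MulEquiv.apply_symm_apply] at h11
    exact h11
  · rw [Function.comp_apply, map_one]
    exact h8

end Cfsg.Agent.H334.DS
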