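import Cfsg.Agent.NotCT.Odd
import Cfsg.Agent.H315.OrderCube
import Cfsg.Agent.H808.SmallSylow
import Cfsg.Agent.H934.OutAll
import Cfsg.Agent.H60.HalfPsl
import Cfsg.Agent.H548.RowPSL
import Cfsg.Agent.H149.PGUGoal

/-!
# `4 |S| |Out S| < ((q + 1)(q - 2)) ^ 2`, `q = |S|_p ≥ 9`, for simple groups of Lie type (helper334, for S4906)
-/

set_option autoImplicit false

namespace Cfsg.Agent.H334.DS

open Cfsg Cfsg.Agent.NotCT

universe u

/-! ### The types with `9 ≤ |S|_p < 191` -/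

theorem typ_list {p k : ℕ} {t : Typ} (hp : p.Prime) (hv : t.Valid p k) (h1 : 9 ≤ (p ^ k) ^ t.N)
    (h2 : (p ^ k) ^ t.N < 191) : t = .L 2 ∨ ((t = .L 3 ∨ t = .U 3) ∧ (p ^ k = 3 ∨ p ^ k = 4 ∨ p ^ k = 5)) ∨
      ((t = .L 4 ∨ t = .U 4) ∧ p ^ k = 2) ∨ (t = .S 2 ∧ p ^ k = 3) ∨ (t = .SZ ∧ p ^ k = 8) := by
  have hk := one_le_k hv
  have hq2 : 2 ≤ p ^ k := (Nat.pow_le_pow_left hp.two_le k).trans' (by
    calc 2 = 2 ^ 1 := rfl
      _ ≤ 2 ^ k := Nat.pow_le_pow_right (by norm_num) hk)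
  have hN : t.N ≤ 7 := by
    by_contra hcon
    push Not at hcon
    have h3 : 2 ^ 8 ≤ (p ^ k) ^ t.N := (Nat.pow_le_pow_left hq2 8).trans (Nat.pow_le_pow_right (by omega) hcon)
    omega
  have b3 : t.N = 3 → p ^ k = 3 ∨ p ^ k = 4 ∨ p ^ k = 5 := by
    intro h
    rw [h] at h1 h2
    have h3 : p ^ k < 6 := by
      by_contra hcon
      push Not at hcon
      have := Nat.pow_le_pow_left hcon 3
      omega
    have h4 : p ^ k ≠ 2 := by
      intro h4
      rw [h4] at h1
      omega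
    omega
  have b4 : t.N = 4 → p ^ k < 4 := by
    intro h
    rw [h] at h1 h2
    by_contra hcon
    push Not at hcon
    have := Nat.pow_le_pow_left hcon 4
    omega
  have b6 : t.N = 6 → p ^ k = 2 := by
    intro h
    rw [h] at h1 h2
    by_contra hcon
    have h4 : 3 ≤ p ^ k := by omega
    have := Nat.pow_le_pow_left h4 6
    omega
  cases t with
  | L n =>
    obtain ⟨-, hn, -⟩ := hv
    simp only [Typ.N] at hN b3 b6
    have h5 : n < 5 := by
      by_contra hcon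
      push Not at hcon
      have : 5 * 4 ≤ n * (n - 1) := Nat.mul_le_mul hcon (by omega)
      omega
    interval_cases n
    · exact Or.inl rfl
    · exact Or.inr (Or.inl ⟨Or.inl rfl, b3 (by norm_num)⟩)
    · exact Or.inr (Or.inr (Or.inl ⟨Or.inl rfl, b6 (by norm_num)⟩))
  | S m =>
    obtain ⟨-, hm, hm2⟩ := hv
    simp only [Typ.N] at hN b4
    have h5 : m < 3 := by
      by_contra hcon
      push Not at hcon
      have := Nat.pow_le_pow_left hcon 2
      omega
    have h6 : m = 2 := by omega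
    have h7 := b4 (by rw [h6]; norm_num)
    have h8 := hm2 h6
    exact Or.inr (Or.inr (Or.inr (Or.inl ⟨by rw [h6], by omega⟩)))
  | U n =>
    obtain ⟨-, hn, -⟩ := hv
    simp only [Typ.N] at hN b3 b6
    have h5 : n < 5 := by
      by_contra hcon
      push Not at hcon
      have : 5 * 4 ≤ n * (n - 1) := Nat.mul_le_mul hcon (by omega)
      omega
    interval_cases n
    · exact Or.inr (Or.inl ⟨Or.inr rfl, b3 (by norm_num)⟩)
    · exact Or.inr (Or.inr (Or.inl ⟨Or.inr rfl, b6 (by norm_num)⟩))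
  | OO m =>
    obtain ⟨-, hm, -⟩ := hv
    simp only [Typ.N] at hN
    have := Nat.pow_le_pow_left hm 2
    omega
  | OP m =>
    obtain ⟨-, hm⟩ := hv
    simp only [Typ.N] at hN
    have : 4 * 3 ≤ m * (m - 1) := Nat.mul_le_mul hm (by omega)
    omega
  | OM m =>
    obtain ⟨-, hm⟩ := hv
    simp only [Typ.N] at hN
    have : 4 * 3 ≤ m * (m - 1) := Nat.mul_le_mul hm (by omega)
    omega
  | SZ =>
    obtain ⟨hp2, hk3, hk2⟩ := hv
    simp only [Typ.N] at h2
    subst hp2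
    refine Or.inr (Or.inr (Or.inr (Or.inr ⟨rfl, ?_⟩)))
    have h5 : k < 4 := by
      by_contra hcon
      push Not at hcon
      have h6 : 2 ^ 4 ≤ 2 ^ k := Nat.pow_le_pow_right (by norm_num) hcon
      have := Nat.pow_le_pow_left h6 2
      omega
    have h6 : k = 3 := by omega
    rw [h6]
    norm_num
  | RG =>
    obtain ⟨hp3, hk3, -⟩ := hv
    have h4 := b3 rfl
    have h5 : 3 ^ 3 ≤ p ^ k := by rw [hp3]; exact Nat.pow_le_pow_right (by norm_num) hk3
    omega
  | G2 =>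
    obtain ⟨-, h3⟩ := hv
    have h4 := b6 rfl
    omega
  | _ => simp only [Typ.N] at hN; omega

/-! ### The index of a Sylow subgroup -/

theorem sylow_bound {S : Type u} [Group S] [Finite S] [IsSimpleGroup S] (hna : ¬ IsMulCommutative S) {p : ℕ}
    (hp : p.Prime) (h : IsLieTypeChar p S) (q : ℕ) (hq : q = p ^ (Nat.card S).factorization p) :
    ∃ i, i * q = Nat.card S ∧ i < q ^ 2 ∧ 2 ^ Nat.card (Cfsg.Out S) ≤ i ^ 3 := by
  have : Fact p.Prime := ⟨hp⟩
  obtain ⟨P⟩ : Nonempty (Sylow p S) := inferInstance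
  have hP : Nat.card P = q := by rw [hq]; exact P.card_eq_multiplicity
  have hne : (P : Subgroup S) ≠ ⊤ := by
    intro htop
    apply hna
    have h1 : IsPGroup p S := by
      have h2 : IsPGroup p (⊤ : Subgroup S) := by rw [← htop]; exact P.isPGroup'
      exact h2.of_equiv Subgroup.topEquiv
    have h3 : Nontrivial (Subgroup.center S) := h1.center_nontrivial
    have h4 : Subgroup.center S = ⊤ := by
      rcases (inferInstance : (Subgroup.center S).Normal).eq_bot_or_eq_top with h5 | h5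
      · exact absurd h5 ((Subgroup.nontrivial_iff_ne_bot _).1 h3)
      · exact h5
    refine ⟨⟨fun a b => ?_⟩⟩
    have h5 : a ∈ Subgroup.center S := by rw [h4]; trivial
    exact ((Subgroup.mem_center_iff.1 h5) b).symm
  have h1 := H934.OutAll.bd hna (NotCT.known_of_lie hp h) (P : Subgroup S) hne
  have h2 := (P : Subgroup S).index_mul_card
  rw [hP] at h2
  have h3 := Cfsg.Agent.H315.OrderCube.card_lt_cube hp h
  rw [← hq] at h3
  refine ⟨_, h2, ?_, h1⟩
  rw [← h2, pow_succ] at h3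
  exact lt_of_mul_lt_mul_right h3 (Nat.zero_le q)

/-! ### Large `q` -/

theorem pow_bound (L : ℕ) (hL : 8 ≤ L) : 24 * L + 23 ≤ 2 ^ L := by
  induction L, hL using Nat.le_induction with
  | base => norm_num
  | succ n hn ih => rw [pow_succ]; omega

theorem large {q i n : ℕ} (hq : 191 ≤ q) (hi : i < q ^ 2) (hn : 2 ^ n ≤ i ^ 3) :
    4 * (i * q * n) < ((q + 1) * (q - 2)) ^ 2 := by
  have h1 : 2 ^ n < q ^ 6 := by
    calc 2 ^ n ≤ i ^ 3 := hn
      _ < (q ^ 2) ^ 3 := Nat.pow_lt_pow_left hi (by norm_num)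
      _ = q ^ 6 := by ring
  set L := Nat.log 2 q with hL
  have h2 : 2 ^ L ≤ q := Nat.pow_log_le_self 2 (by omega)
  have h3 : q < 2 ^ (L + 1) := Nat.lt_pow_succ_log_self (by norm_num) q
  have h4 : n < 6 * (L + 1) := by
    have h5 : 2 ^ n < 2 ^ ((L + 1) * 6) := by
      rw [pow_mul]
      exact h1.trans (Nat.pow_lt_pow_left h3 (by norm_num))
    have := (Nat.pow_lt_pow_iff_right (by norm_num : 1 < 2)).1 h5
    omega
  have h7 : 7 ≤ L := by
    by_contra hcon
    push Not at hcon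
    have : 2 ^ (L + 1) ≤ 2 ^ 7 := Nat.pow_le_pow_right (by norm_num) (by omega)
    omega
  have h8 : 4 * n + 3 ≤ q := by
    rcases Nat.eq_or_lt_of_le h7 with h9 | h9
    · omega
    · have := pow_bound L (by omega)
      omega
  obtain ⟨m, rfl⟩ : ∃ m, q = m + 2 := ⟨q - 2, by omega⟩
  have h10 : i * (m + 2) * n ≤ (m + 2) ^ 2 * (m + 2) * n := by
    gcongr
  have h11 : 4 * ((m + 2) ^ 2 * (m + 2) * n) ≤ (m + 2) ^ 3 * (m + 2 - 3) := by
    have : 4 * n ≤ m + 2 - 3 := by omega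
    calc 4 * ((m + 2) ^ 2 * (m + 2) * n) = (m + 2) ^ 3 * (4 * n) := by ring
      _ ≤ _ := Nat.mul_le_mul_left _ this
  have h12 : (m + 2) ^ 3 * (m + 2 - 3) < ((m + 2 + 1) * (m + 2 - 2)) ^ 2 := by
    obtain ⟨r, rfl⟩ : ∃ r, m = r + 1 := ⟨m - 1, by omega⟩
    have e1 : r + 1 + 2 - 3 = r := by omega
    have e2 : r + 1 + 2 - 2 = r + 1 := by omega
    rw [e1, e2]
    nlinarith [Nat.zero_le r]
  omega

/-! ### Arithmetic for `L2` -/

theorem arith_l2 : ∀ p < 191, ∀ k < 8, 9 ≤ p ^ k → p ^ k < 191 → p ^ k = 9 ∨ p ^ k = 16 ∨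
    4 * (p ^ k * ((p ^ k) ^ 2 - 1) * k) < ((p ^ k + 1) * (p ^ k - 2)) ^ 2 := by decide +kernel

theorem card_out_congr {X : Type u} {Y : Type*} [Group X] [Group Y] (e : X ≃* Y) :
    Nat.card (Cfsg.Out X) = Nat.card (Cfsg.Out Y) := H934.OutB.card_out_congr e

theorem lt_of_two_pow {n i m : ℕ} (h : 2 ^ n ≤ i ^ 3) (h2 : i ^ 3 < 2 ^ m) : n < m :=
  (Nat.pow_lt_pow_iff_right (by norm_num : 1 < 2)).1 (h.trans_lt h2)

/-- **OUT.** -/
theorem out_bound {S : Type u} [Group S] [Finite S] [IsSimpleGroup S] (hna : ¬ IsMulCommutative S) {p : ℕ}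
    (hp : p.Prime) (h : IsLieTypeChar p S) (q : ℕ) (hq : q = p ^ (Nat.card S).factorization p) (h9 : 9 ≤ q) :
    4 * (Nat.card S * Nat.card (Cfsg.Out S)) < ((q + 1) * (q - 2)) ^ 2 ∨ Nat.card S = 360 ∨ Nat.card S = 4080 := by
  have : Fact p.Prime := ⟨hp⟩
  obtain ⟨i, hi1, hi2, hi3⟩ := sylow_bound hna hp h q hq
  rcases Nat.lt_or_ge q 191 with h191 | h191
  swap
  · left
    rw [← hi1]
    exact large h191 hi2 hi3
  obtain ⟨t, k, hv, ht⟩ := exists_typ hp h
  have ho := card_eq hp hv ht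
  have h0 : ordProj[p] (Nat.card S) = p ^ (k * t.N) :=
    H808.SmallSylow.ordProj_eq hp Nat.card_pos.ne' (dvd_card hp hv ho) (not_dvd_card hp hv ho)
  have hqN : q = (p ^ k) ^ t.N := by rw [hq, h0, pow_mul]
  change t.D (p ^ k) * Nat.card S = (p ^ k) ^ t.N * t.P (p ^ k) at ho
  have hk := one_le_k hv
  have hk7 : ∀ m, p ^ k = m → m < 191 → k < 8 := by
    intro m hm hm2
    by_contra hcon
    push Not at hcon
    have h1 : 2 ^ 8 ≤ p ^ k := (Nat.pow_le_pow_left hp.two_le 8).trans (Nat.pow_le_pow_right hp.pos hcon)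
    omega
  have hp191 : ∀ m, p ^ k = m → m < 191 → p < 191 := by
    intro m hm hm2
    have : p ^ 1 ≤ p ^ k := Nat.pow_le_pow_right hp.pos hk
    rw [pow_one] at this
    omega
  rcases typ_list hp hv (hqN ▸ h9) (hqN ▸ h191) with rfl | ⟨rfl | rfl, h3⟩ | ⟨rfl | rfl, h3⟩ | ⟨rfl, h3⟩ | ⟨rfl, h3⟩
  · -- `L2`
    obtain ⟨F, _, _, hF, ⟨e⟩⟩ := ht
    have hqk : q = p ^ k := by rw [hqN]; simp [Typ.N]
    have hout : Nat.card (Cfsg.Out S) = Nat.gcd 2 (p ^ k - 1) * k := by
      rw [card_out_congr e, H60.HalfPsl.card_out hk hF (by omega)]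
    have ho' : Nat.gcd 2 (p ^ k - 1) * Nat.card S = p ^ k * ((p ^ k) ^ 2 - 1) := by
      have h4 := ho
      simp only [Typ.D, Typ.N, Typ.P, pA] at h4
      norm_num at h4
      exact h4
    rcases arith_l2 p (hp191 _ rfl (by omega)) k (hk7 _ rfl (by omega)) (by omega) (by omega) with h4 | h4 | h4
    · right; left
      rw [h4] at ho'
      norm_num at ho'
      omega
    · right; right
      rw [h4] at ho'
      norm_num at ho'
      omega
    · left
      have h5 : Nat.card S * Nat.card (Cfsg.Out S) = p ^ k * ((p ^ k) ^ 2 - 1) * k := by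
        rw [hout, ← ho']
        ring
      rw [h5, hqk]
      exact h4
  · -- `L3`
    left
    obtain ⟨F, _, _, hF, ⟨e⟩⟩ := ht
    have hout : Nat.card (Cfsg.Out S) = Nat.gcd 3 (p ^ k - 1) * (2 * k) := by
      rw [card_out_congr e, H548.RowPSL.card_out_psl hk hF (by norm_num)]
    have h5 : Nat.card S * Nat.card (Cfsg.Out S) = (p ^ k) ^ 3 * (Typ.L 3).P (p ^ k) * (2 * k) := by
      rw [hout, show (p ^ k) ^ 3 = (p ^ k) ^ (Typ.L 3).N from rfl, ← ho]
      simp only [Typ.D]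
      ring
    rw [h5, hqN]
    have hk8 := hk7 _ rfl (show p ^ k < 191 by omega)
    rcases h3 with h3 | h3 | h3 <;> rw [h3] <;> interval_cases k <;> decide
  · -- `U3`
    left
    obtain ⟨F, _, _, hF, ⟨e⟩⟩ := ht
    have hout : Nat.card (Cfsg.Out S) = Nat.gcd 3 (p ^ k + 1) * (2 * k) := by
      rw [card_out_congr e, H149.PGU.card_out_psu hk rfl hF (by norm_num) (by omega)]
    have h5 : Nat.card S * Nat.card (Cfsg.Out S) = (p ^ k) ^ 3 * (Typ.U 3).P (p ^ k) * (2 * k) := by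
      rw [hout, show (p ^ k) ^ 3 = (p ^ k) ^ (Typ.U 3).N from rfl, ← ho]
      simp only [Typ.D]
      ring
    rw [h5, hqN]
    have hk8 := hk7 _ rfl (show p ^ k < 191 by omega)
    rcases h3 with h3 | h3 | h3 <;> rw [h3] <;> interval_cases k <;> decide
  · -- `L4(2)`
    left
    rw [h3] at ho hqN
    have h4 : q = 64 := by rw [hqN]; rfl
    have h5 : Nat.card S = 20160 := by
      have h6 : (1 : ℕ) * Nat.card S = 20160 := ho
      omega
    rw [h5, h4] at hi1
    have h6 : i = 315 := by omega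
    subst h6
    have h7 : Nat.card (Cfsg.Out S) < 25 := lt_of_two_pow hi3 (by norm_num)
    rw [h5, h4]
    omega
  · -- `U4(2)`
    left
    rw [h3] at ho hqN
    have h4 : q = 64 := by rw [hqN]; rfl
    have h5 : Nat.card S = 25920 := by
      have h6 : (1 : ℕ) * Nat.card S = 25920 := ho
      omega
    rw [h5, h4] at hi1
    have h6 : i = 405 := by omega
    subst h6
    have h7 : Nat.card (Cfsg.Out S) < 27 := lt_of_two_pow hi3 (by norm_num)
    rw [h5, h4]
    omega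
  · -- `S4(3)`
    left
    rw [h3] at ho hqN
    have h4 : q = 81 := by rw [hqN]; rfl
    have h5 : Nat.card S = 25920 := by
      have h6 : (2 : ℕ) * Nat.card S = 51840 := ho
      omega
    rw [h5, h4] at hi1
    have h6 : i = 320 := by omega
    subst h6
    have h7 : Nat.card (Cfsg.Out S) < 25 := lt_of_two_pow hi3 (by norm_num)
    rw [h5, h4]
    omega
  · -- `Sz(8)`
    left
    rw [h3] at ho hqN
    have h4 : q = 64 := by rw [hqN]; rfl
    have h5 : Nat.card S = 29120 := by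
      have h6 : (1 : ℕ) * Nat.card S = 29120 := ho
      omega
    rw [h5, h4] at hi1
    have h6 : i = 455 := by omega
    subst h6
    have h7 : Nat.card (Cfsg.Out S) < 27 := lt_of_two_pow hi3 (by norm_num)
    rw [h5, h4]
    omega

end Cfsg.Agent.H334.DS
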