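import Cfsg.Agent.H704.DS.K.Tits
import Cfsg.Agent.H547.SelfCent.Tits
import Cfsg.Agent.H393.Iso.TitsJ4
import Cfsg.Agent.S1074

/-!
# S4906: the row of the Tits group (helper334)
-/

set_option autoImplicit false

universe u

namespace Cfsg.Agent.H334.DS.TitsRow

open Cfsg Subgroup Cfsg.Agent.H704 Cfsg.Agent.H704.DS
open scoped commutatorElement

theorem simple_tits {K : Type*} [Group K] (h : Lie.IsoTits K) : IsSimpleGroup K := by
  obtain ⟨e⟩ := h
  have hs : IsSimpleGroup Cfsg.Lie.TitsGroup := Cfsg.Agent.S1074.result.2.1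
  have hn : Nontrivial K := e.toEquiv.nontrivial
  exact IsSimpleGroup.isSimpleGroup_of_surjective e.symm.toMonoidHom e.symm.surjective

variable {K : Type u} [Group K] [Finite K]

theorem perfect_of_cent (hs : IsSimpleGroup K) {p : ℕ} (hp : p.Prime) (hd : p ∣ Nat.card K) (hne : Nat.card K ≠ p)
    (hC : ∀ y : K, orderOf y = p → Nat.card (centralizer ({y} : Set K)) = p) : commutator K = ⊤ := by
  rcases IsSimpleGroup.eq_bot_or_eq_top_of_normal (commutator K) inferInstance with h | h
  · exfalso
    have : Fact p.Prime := ⟨hp⟩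
    obtain ⟨x, hx⟩ := exists_prime_orderOf_dvd_card' (G := K) p hd
    apply hne
    rw [← hC x hx]
    have h1 : centralizer ({x} : Set K) = ⊤ := by
      rw [eq_top_iff]
      intro y _
      rw [mem_centralizer_singleton_iff]
      have h2 : ⁅y, x⁆ ∈ commutator K := commutator_mem_commutator (mem_top y) (mem_top x)
      rw [h, mem_bot, commutatorElement_eq_one_iff_mul_comm] at h2
      exact h2
    rw [h1, card_top]
  · exact h

/-- the facts on the Tits group -/
theorem facts_Tits (h : Lie.IsoTits K) (him : IM K) : Facts K 17971200 [2, 3, 5, 13] [(13, 6)] := by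
  have hc := NotCT.Orders.tits h
  have hs := simple_tits h
  have hC : ∀ y : K, orderOf y = 13 → Nat.card (centralizer ({y} : Set K)) = 13 := fun y hy =>
    H547.SelfCent.tits h hs (H393.Iso.na_tits h) hy
  have h13 : Nat.Prime 13 := by norm_num
  refine ⟨hc, perfect_of_cent hs h13 (by rw [hc]; norm_num) (by rw [hc]; norm_num) hC, ?_, him, ?_⟩
  · intro p hp
    simp only [List.mem_cons, List.not_mem_nil, or_false] at hp
    rcases hp with rfl | rfl | rfl | rfl <;> norm_num
  · intro q hq
    simp only [List.mem_cons, List.not_mem_nil, or_false] at hq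
    subst hq
    exact SCok.mk' 13 h13 (by norm_num) (by rw [hc]; norm_num) (by rw [hc]; norm_num) hC (e := 6)
      (by rw [hc]) (by norm_num)

/-- **row Tits** -/
theorem row_tits (h : Lie.IsoTits K) (him : IM K) {n : ℕ} (hd : DegOK n K) : False :=
  H704.DS.K.Tits.kill (facts_Tits h him) hd.degM

end Cfsg.Agent.H334.DS.TitsRow
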